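import Mathlib
import Groth.Agent.UnitTensor.Basic
import Groth.Agent.GrpField.Irreducible
import Groth.Agent.Assoc.Reduced

/-!
# Rosenlicht's theorem: units on a product of varieties

`X`, `Y` integral, locally of finite type over an algebraically closed field `k`: a unit `f` on `X ⊗ Y`
satisfies `f · f(x₀,y₀) = f(·,y₀) · f(x₀,·)`.
-/

universe u

open CategoryTheory CategoryTheory.Limits MonoidalCategory CartesianMonoidalCategory AlgebraicGeometry
open scoped TensorProduct

set_option backward.isDefEq.respectTransparency false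
set_option linter.style.haveILetI false

namespace Groth.Agent.Rosenlicht

section chart

variable {k : Type u} [Field k]

/-- An affine scheme over `k`. -/
noncomputable abbrev aff (k A : Type u) [Field k] [CommRing A] [Algebra k A] : Over (Spec (CommRingCat.of k)) :=
  Over.mk (Spec.map (CommRingCat.ofHom (algebraMap k A)))

/-- The morphism of affine schemes of an algebra homomorphism. -/
noncomputable def amk {A B : Type u} [CommRing A] [Algebra k A] [CommRing B] [Algebra k B] (φ : A →ₐ[k] B) :
    aff k B ⟶ aff k A :=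
  Over.homMk (Spec.map (CommRingCat.ofHom φ.toRingHom)) (by
    show Spec.map _ ≫ Spec.map _ = Spec.map _
    rw [← Spec.map_comp]
    congr 1
    ext : 1
    exact φ.comp_algebraMap)

theorem amk_comp {A B C : Type u} [CommRing A] [Algebra k A] [CommRing B] [Algebra k B] [CommRing C] [Algebra k C]
    (φ : A →ₐ[k] B) (ψ : B →ₐ[k] C) : amk ψ ≫ amk φ = amk (ψ.comp φ) := by
  ext : 1
  show Spec.map _ ≫ Spec.map _ = Spec.map _
  rw [← Spec.map_comp]
  rfl

/-- A rational point has an affine chart. -/
theorem exists_chart (X : Over (Spec (CommRingCat.of k))) [LocallyOfFiniteType X.hom]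
    (x0 : 𝟙_ (Over (Spec (CommRingCat.of k))) ⟶ X) :
    ∃ (A : Type u) (_ : CommRing A) (_ : Algebra k A) (_ : Algebra.FiniteType k A) (j : aff k A ⟶ X)
      (ε : A →ₐ[k] k), IsOpenImmersion j.left ∧
      ∀ (C : Type u) [CommRing C] [Algebra k C], amk ((Algebra.ofId k C).comp ε) ≫ j = toUnit (aff k C) ≫ x0 := by
  let s0 : ↥(Spec (CommRingCat.of k)) := IsLocalRing.closedPoint k
  let p : Spec (CommRingCat.of k) ⟶ X.left := x0.left
  obtain ⟨U, hU, heU, -⟩ := exists_isAffineOpen_mem_and_subset (x := p.base s0) (U := (⊤ : X.left.Opens)) trivial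
  obtain ⟨s, hs⟩ := Spec.map_surjective (hU.fromSpec ≫ X.hom)
  let A := Γ(X.left, U)
  algebraize [s.hom]
  have hs' : Spec.map (CommRingCat.ofHom (algebraMap k A)) = hU.fromSpec ≫ X.hom := hs
  haveI : Algebra.FiniteType k A := (HasRingHomProperty.Spec_iff (P := @LocallyOfFiniteType)).mp
    (show LocallyOfFiniteType (Spec.map (CommRingCat.ofHom (algebraMap k A))) from hs' ▸ inferInstance)
  have hr : Set.range p.base ⊆ Set.range hU.fromSpec.base := by
    rintro _ ⟨z, rfl⟩
    rw [hU.range_fromSpec]
    rw [show z = s0 from Subsingleton.elim (α := PrimeSpectrum k) z s0]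
    exact heU
  obtain ⟨e0, he0⟩ := Spec.map_surjective (IsOpenImmersion.lift hU.fromSpec p hr)
  have he1 : Spec.map e0 ≫ hU.fromSpec = p := by rw [he0, IsOpenImmersion.lift_fac]
  let ε : A →ₐ[k] k := AlgHom.mk e0.hom (fun c => by
    have h : Spec.map (CommRingCat.ofHom (algebraMap k A) ≫ e0) = Spec.map (𝟙 (CommRingCat.of k)) := by
      rw [Spec.map_comp, hs', ← Category.assoc, he1, Spec.map_id]
      exact Over.w x0
    exact RingHom.congr_fun (congrArg CommRingCat.Hom.hom (Spec.map_injective h)) c)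
  refine ⟨A, inferInstance, inferInstance, inferInstance, Over.homMk hU.fromSpec hs'.symm, ε,
    inferInstanceAs (IsOpenImmersion hU.fromSpec), fun C _ _ => ?_⟩
  ext : 1
  show Spec.map (e0 ≫ CommRingCat.ofHom (algebraMap k C)) ≫ hU.fromSpec = (aff k C).hom ≫ p
  rw [Spec.map_comp, Category.assoc, he1]
  rfl

/-- The chart of an integral scheme has a domain of functions. -/
theorem isDomain_of_chart {X : Over (Spec (CommRingCat.of k))} [IsIntegral X.left] {A : Type u} [CommRing A]
    [Algebra k A] (j : aff k A ⟶ X) [IsOpenImmersion j.left] (ε : A →ₐ[k] k) : IsDomain A := by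
  haveI : Nontrivial A := ε.toRingHom.domain_nontrivial
  haveI : Nonempty ↥(aff k A).left := inferInstanceAs (Nonempty (PrimeSpectrum A))
  haveI : IsIntegral (Spec (CommRingCat.of A)) := isIntegral_of_isOpenImmersion j.left
  exact (affine_isIntegral_iff (CommRingCat.of A)).1 ‹_›

/-- Pulling back along an open immersion into an integral scheme is injective. -/
theorem appTop_injective {W P : Scheme.{u}} [IsIntegral P] [Nonempty W] (i : W ⟶ P) [IsOpenImmersion i] :
    Function.Injective i.appTop := by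
  haveI : Nonempty (i ''ᵁ ⊤).toScheme := ⟨⟨i.base (Classical.arbitrary W), ⟨_, trivial, rfl⟩⟩⟩
  intro p q h
  apply map_injective_of_isIntegral P (homOfLE (le_top : i ''ᵁ ⊤ ≤ ⊤))
  apply (i.appIso ⊤).commRingCatIsoToRingEquiv.injective
  have e : P.presheaf.map (homOfLE (le_top : i ''ᵁ ⊤ ≤ ⊤)).op ≫ (i.appIso ⊤).hom = i.appTop := by
    rw [Scheme.Hom.appIso_hom', Scheme.Hom.map_appLE]
    exact Scheme.Hom.appLE_eq_app _
  exact (RingHom.congr_fun (congrArg CommRingCat.Hom.hom e) p).trans
    (h.trans (RingHom.congr_fun (congrArg CommRingCat.Hom.hom e) q).symm)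

/-- The value of a global function on an affine scheme mapping in. -/
noncomputable def aval {A : Type u} [CommRing A] [Algebra k A] {X : Over (Spec (CommRingCat.of k))}
    (q : aff k A ⟶ X) : Γ(X.left, ⊤) →+* A :=
  (q.left.appTop ≫ (Scheme.ΓSpecIso (CommRingCat.of A)).hom).hom

theorem aval_amk {A B : Type u} [CommRing A] [Algebra k A] [CommRing B] [Algebra k B]
    {X : Over (Spec (CommRingCat.of k))} (φ : A →ₐ[k] B) (q : aff k A ⟶ X) (f : Γ(X.left, ⊤)) :
    aval (amk φ ≫ q) f = φ (aval q f) := by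
  show (Scheme.ΓSpecIso (CommRingCat.of B)).hom ((Spec.map (CommRingCat.ofHom φ.toRingHom)).appTop
    (q.left.appTop f)) = _
  rw [← CommRingCat.comp_apply, Scheme.ΓSpecIso_naturality, CommRingCat.comp_apply]
  rfl

theorem aval_comp {A : Type u} [CommRing A] [Algebra k A] {X Y : Over (Spec (CommRingCat.of k))}
    (q : aff k A ⟶ X) (r : X ⟶ Y) (f : Γ(Y.left, ⊤)) :
    aval q (r.left.appTop f) = aval (q ≫ r) f := rfl

theorem aval_injective {A : Type u} [CommRing A] [Algebra k A] [Nontrivial A]
    {P : Over (Spec (CommRingCat.of k))} [IsIntegral P.left]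
    (q : aff k A ⟶ P) [IsOpenImmersion q.left] : Function.Injective (aval q) := by
  haveI : Nonempty ↥(aff k A).left := inferInstanceAs (Nonempty (PrimeSpectrum A))
  exact (Scheme.ΓSpecIso (CommRingCat.of A)).commRingCatIsoToRingEquiv.injective.comp (appTop_injective q.left)

end chart

variable {k : Type u} [Field k] [IsAlgClosed k] {X Y : Over (Spec (CommRingCat.of k))}

theorem geometricallyIrreducible (X : Over (Spec (CommRingCat.of k))) [IrreducibleSpace ↥X.left]
    [LocallyOfFiniteType X.hom] : GeometricallyIrreducible X.hom := by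
  refine ⟨fun L _ y Z fst snd h => ?_⟩
  haveI := Groth.Agent.GrpField.irreducibleSpace_pullback X.hom y
  exact h.isoPullback.hom.homeomorph.irreducibleSpace_iff.2 ‹_›

/-- A product of integral schemes locally of finite type over an algebraically closed field is integral. -/
theorem isIntegral_tensor (X Y : Over (Spec (CommRingCat.of k))) [IsIntegral X.left] [IsIntegral Y.left]
    [LocallyOfFiniteType X.hom] [LocallyOfFiniteType Y.hom] : IsIntegral (X ⊗ Y).left := by
  haveI : IrreducibleSpace ↥(Spec (CommRingCat.of k)) := inferInstanceAs (IrreducibleSpace (PrimeSpectrum k))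
  haveI := geometricallyIrreducible X
  haveI : UniversallyOpen X.hom := inferInstance
  haveI : IrreducibleSpace ↥(pullback X.hom Y.hom) := inferInstance
  haveI : IrreducibleSpace ↥(X ⊗ Y).left := inferInstanceAs (IrreducibleSpace ↥(pullback X.hom Y.hom))
  haveI : IsReduced (pullback X.hom Y.hom) := Groth.Agent.Assoc.isReduced_pullback k X.hom Y.hom
  haveI : IsReduced (X ⊗ Y).left := inferInstanceAs (IsReduced (pullback X.hom Y.hom))
  exact isIntegral_of_irreducibleSpace_of_isReduced _

/-- **Rosenlicht**: `f(x,y) f(x₀,y₀) = f(x,y₀) f(x₀,y)` for a unit `f` on `X ⊗ Y`. -/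
theorem unit_mul_const [IsIntegral X.left] [IsIntegral Y.left] [LocallyOfFiniteType X.hom]
    [LocallyOfFiniteType Y.hom] (x0 : 𝟙_ (Over (Spec (CommRingCat.of k))) ⟶ X)
    (y0 : 𝟙_ (Over (Spec (CommRingCat.of k))) ⟶ Y) (f : Γ((X ⊗ Y).left, ⊤)) (hf : IsUnit f) :
    f * (toUnit (X ⊗ Y) ≫ lift x0 y0).left.appTop f =
      (lift (fst X Y) (toUnit _ ≫ y0)).left.appTop f * (lift (toUnit _ ≫ x0) (snd X Y)).left.appTop f := by
  obtain ⟨A, _, _, _, jX, φ, hjX, hφ⟩ := exists_chart X x0
  obtain ⟨B, _, _, _, jY, ψ, hjY, hψ⟩ := exists_chart Y y0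
  haveI := isDomain_of_chart jX φ
  haveI := isDomain_of_chart jY ψ
  haveI := isIntegral_tensor X Y
  let iL : A →ₐ[k] A ⊗[k] B := Algebra.TensorProduct.includeLeft
  let iR : B →ₐ[k] A ⊗[k] B := Algebra.TensorProduct.includeRight
  let i : aff k (A ⊗[k] B) ⟶ X ⊗ Y := lift (amk iL ≫ jX) (amk iR ≫ jY)
  haveI hi : IsOpenImmersion i.left := by
    have hwX : Spec.map (CommRingCat.ofHom (algebraMap k A)) = jX.left ≫ X.hom := (Over.w jX).symm
    have hwY : Spec.map (CommRingCat.ofHom (algebraMap k B)) = jY.left ≫ Y.hom := (Over.w jY).symm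
    have e : i.left = (pullbackSpecIso k A B).inv ≫ pullback.map _ _ X.hom Y.hom jX.left jY.left (𝟙 _)
        (by rw [Category.comp_id]; exact hwX) (by rw [Category.comp_id]; exact hwY) := by
      apply pullback.hom_ext
      · rw [Category.assoc, pullback.map, pullback.lift_fst, pullbackSpecIso_inv_fst_assoc]
        exact congrArg CommaMorphism.left (lift_fst (amk iL ≫ jX) (amk iR ≫ jY))
      · rw [Category.assoc, pullback.map, pullback.lift_snd, pullbackSpecIso_inv_snd_assoc]
        exact congrArg CommaMorphism.left (lift_snd (amk iL ≫ jX) (amk iR ≫ jY))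
    rw [e]; infer_instance
  let φψ : A ⊗[k] B →ₐ[k] k := Algebra.TensorProduct.lift φ ψ fun _ _ => .all _ _
  haveI : Nontrivial (A ⊗[k] B) := φψ.toRingHom.domain_nontrivial
  obtain ⟨w, hw⟩ := (hf.map (aval i)).exists_right_inv
  obtain ⟨a, b, hab⟩ := Groth.Agent.UnitTensor.exists_eq_tmul_of_mul_eq_one hw
  let e1 : A ⊗[k] B →ₐ[k] A ⊗[k] B :=
    Algebra.TensorProduct.lift iL ((Algebra.ofId k _).comp ψ) fun _ _ => .all _ _
  let e2 : A ⊗[k] B →ₐ[k] A ⊗[k] B :=
    Algebra.TensorProduct.lift ((Algebra.ofId k _).comp φ) iR fun _ _ => .all _ _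
  let e3 : A ⊗[k] B →ₐ[k] A ⊗[k] B :=
    Algebra.TensorProduct.lift ((Algebra.ofId k _).comp φ) ((Algebra.ofId k _).comp ψ) fun _ _ => .all _ _
  have h1 : i ≫ lift (fst X Y) (toUnit _ ≫ y0) = amk e1 ≫ i := by
    rw [comp_lift, comp_lift, lift_fst, ← Category.assoc (amk e1), ← Category.assoc (amk e1), amk_comp, amk_comp,
      comp_toUnit_assoc,
      show e1.comp iL = iL from Algebra.TensorProduct.lift_comp_includeLeft _ _ (fun _ _ => .all _ _),
      show e1.comp iR = (Algebra.ofId k _).comp ψ from
        Algebra.TensorProduct.lift_comp_includeRight _ _ (fun _ _ => .all _ _), hψ]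
  have h2 : i ≫ lift (toUnit _ ≫ x0) (snd X Y) = amk e2 ≫ i := by
    rw [comp_lift, comp_lift, lift_snd, ← Category.assoc (amk e2), ← Category.assoc (amk e2), amk_comp, amk_comp,
      comp_toUnit_assoc,
      show e2.comp iR = iR from Algebra.TensorProduct.lift_comp_includeRight _ _ (fun _ _ => .all _ _),
      show e2.comp iL = (Algebra.ofId k _).comp φ from
        Algebra.TensorProduct.lift_comp_includeLeft _ _ (fun _ _ => .all _ _), hφ]
  have h3 : i ≫ toUnit _ ≫ lift x0 y0 = amk e3 ≫ i := by
    rw [comp_lift, comp_lift, comp_lift, ← Category.assoc (amk e3), ← Category.assoc (amk e3), amk_comp, amk_comp,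
      comp_toUnit_assoc, comp_toUnit_assoc,
      show e3.comp iR = (Algebra.ofId k _).comp ψ from
        Algebra.TensorProduct.lift_comp_includeRight _ _ (fun _ _ => .all _ _),
      show e3.comp iL = (Algebra.ofId k _).comp φ from
        Algebra.TensorProduct.lift_comp_includeLeft _ _ (fun _ _ => .all _ _), hφ, hψ]
  apply aval_injective i
  rw [map_mul, map_mul, aval_comp, aval_comp, aval_comp, h1, h2, h3, aval_amk, aval_amk, aval_amk, hab]
  simp only [e1, e2, e3, iL, iR, Algebra.TensorProduct.lift_tmul, AlgHom.comp_apply, Algebra.ofId_apply,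
    Algebra.TensorProduct.includeLeft_apply, Algebra.TensorProduct.includeRight_apply,
    Algebra.algebraMap_eq_smul_one, Algebra.TensorProduct.one_def, TensorProduct.smul_tmul',
    Algebra.TensorProduct.tmul_mul_tmul]
  simp [mul_comm, mul_smul, TensorProduct.tmul_smul, TensorProduct.smul_tmul']

/-- Existence of a rational point. -/
theorem exists_point (X : Over (Spec (CommRingCat.of k))) [Nonempty ↥X.left] [LocallyOfFiniteType X.hom] :
    Nonempty (𝟙_ (Over (Spec (CommRingCat.of k))) ⟶ X) := by
  haveI : JacobsonSpace ↥X.left := LocallyOfFiniteType.jacobsonSpace X.hom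
  obtain ⟨x⟩ := (inferInstance : Nonempty ↥X.left)
  obtain ⟨z, -, hz⟩ := nonempty_inter_closedPoints (Z := (Set.univ : Set ↥X.left)) ⟨x, trivial⟩
    isOpen_univ.isLocallyClosed
  exact ⟨Over.homMk (pointOfClosedPoint X.hom z hz) (pointOfClosedPoint_comp X.hom z hz)⟩

end Groth.Agent.Rosenlicht
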